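import Groth.Agent.HorrocksPn.Sections
import Groth.Agent.P1Split.Dim
import Groth.Agent.S0024

/-!
Horrocks' criterion: a coherent module on projective space without negative sections and without middle
cohomology is a sum of twists.
-/

set_option autoImplicit false
set_option linter.unusedSectionVars false
set_option linter.style.haveILetI false
set_option backward.isDefEq.respectTransparency false

universe u

open CategoryTheory CategoryTheory.Limits AlgebraicGeometry TopologicalSpace Opposite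
open Groth.Agent.RegKos
open Groth.Agent.Mumford (O')

noncomputable section

namespace Groth.Agent.HorrocksPn

variable {k : Type u} [Field k] {n : ℕ}

lemma isField_top : IsField Γ(CohB1.ProjSpace n k, ⊤) := by
  haveI := Groth.Agent.S0024.result n k
  exact MulEquiv.isField (Field.toIsField k)
    ((asIso (Scheme.ΓSpecIso (CommRingCat.of k)).inv ≪≫ asIso (CohB1.ProjSpace.toSpec n k).appTop
      ).commRingCatIsoToRingEquiv.symm.toMulEquiv)

lemma exists_etaTw (a : ℤ) :
    Nonempty (CohB1.tensorMod (O' k n a) (O' k n (-a)) ≅ Coh.structureModule (CohB1.ProjSpace n k)) := by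
  obtain ⟨i⟩ := RegCx.twist_twist (k := k) (n := n) a (-a) 0 (by ring)
  obtain ⟨j⟩ := GrT.nonempty_twist_zero_iso (𝒜 := CohB1.polyGrading n k)
  exact ⟨i ≪≫ j⟩

variable (k n) in
/-- A trivialisation of `O(a) ⊗ O(-a)`. -/
def etaTw (a : ℤ) : CohB1.tensorMod (O' k n a) (O' k n (-a)) ≅ Coh.structureModule (CohB1.ProjSpace n k) :=
  (exists_etaTw (k := k) (n := n) a).some

/-- The map given by a section of `F(a)`. -/
def sec {F : (CohB1.ProjSpace n k).Modules} (a : ℤ) (g : S F a) : O' k n (-a) ⟶ F :=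
  LinRes.secHom (etaTw k n a) g

lemma sec_gen {F : (CohB1.ProjSpace n k).Modules} (a : ℤ) (g : S F a) :
    sMap (sec a g) a (LinRes.gen₀ (etaTw k n a)) = g :=
  LinRes.tmap_secHom_gen (etaTw k n a) (CohFinite.isInvertible_twist n k a) g

lemma exists_smul_gen (a : ℤ) (r : S (O' k n (-a)) a) :
    ∃ c : Γ(CohB1.ProjSpace n k, ⊤), r = c • LinRes.gen₀ (etaTw k n a) := by
  let θ := TMul.commIso (O' k n (-a)) (O' k n a) ≪≫ etaTw k n a
  let c : Γ(CohB1.ProjSpace n k, ⊤) := θ.hom.app ⊤ r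
  refine ⟨c, ?_⟩
  let one : Γ(Coh.structureModule (CohB1.ProjSpace n k), ⊤) := (1 : Γ(CohB1.ProjSpace n k, ⊤))
  have h1 : θ.inv.app ⊤ (c • one) = c • LinRes.gen₀ (etaTw k n a) := TMul.app_smul θ.inv c _
  rw [← h1, show c • one = θ.hom.app ⊤ r from mul_one c]
  exact (congrArg (ev r) θ.hom_inv_id).symm

/-- A morphism killing all sections of twists is zero. -/
lemma eq_zero_of_sMap {M N : (CohB1.ProjSpace n k).Modules} (hM : Coh.IsCoh M) (h : M ⟶ N)
    (h0 : ∀ (b : ℤ) (z : S M b), sMap h b z = 0) : h = 0 := by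
  obtain ⟨N₀, hN⟩ := GrT.exists_epi_twists
    (v := fun i : ProjCech.J.{u} n => (MvPolynomial.X i.down : MvPolynomial (Fin (n + 1)) k))
    (fun i => MvPolynomial.isHomogeneous_X k i.down) hM.1 hM.2 (CohFinite.cov_X n k)
  obtain ⟨l, p, hp⟩ := hN N₀ le_rfl
  rw [← cancel_epi p, comp_zero]
  refine Sigma.hom_ext _ _ fun j => ?_
  rw [comp_zero, ← Category.assoc]
  refine LinRes.eq_zero_of_tmap (CohFinite.isInvertible_twist n k (N₀ : ℤ)) _ ?_
  refine LinRes.eq_zero_of_gen (TMul.commIso _ _ ≪≫ etaTw k n N₀) _ ?_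
  exact (sMap_comp _ h (N₀ : ℤ) _).trans (h0 _ _)

lemma twist_sections_zero {a b : ℤ} (h : b < a) (z : S (O' k n (-a)) b) (hn : 1 ≤ n) : z = 0 := by
  obtain ⟨i⟩ := RegCx.twist_twist (k := k) (n := n) (-a) b (b - a) (by ring)
  have h1 := CohQC.hh_subsingleton_of_iso i.symm _
    (ProjCech.twist_vanish (R := k) n (b - a) 0 (by omega) (by omega))
  obtain ⟨e, -⟩ := CohFinite.exists_zero_equiv k (CohB1.tensorMod (O' k n (-a)) (O' k n b))
  exact e.symm.injective (h1.elim _ _)

lemma twist_mem_Dec {a b : ℤ} (h : a < b) (z : S (O' k n (-a)) b) : z ∈ Dec (O' k n (-a)) b := by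
  refine mem_Dec_of_regular _ (CohFinite.isCoh_twist n k (-a)) (b - 1) (fun q hq hqn => ?_) b (by ring) z
  obtain ⟨i⟩ := RegCx.twist_twist (k := k) (n := n) (-a) (b - 1 - q) (b - 1 - q - a) (by ring)
  exact CohQC.hh_subsingleton_of_iso i.symm _ (ProjCech.twist_vanish n _ q (by omega) (by omega))

/-- Coherent modules are regular in high degrees. -/
lemma exists_regular (F : (CohB1.ProjSpace n k).Modules) (hF : Coh.IsCoh F) :
    ∃ m₀ : ℤ, ∀ m, m₀ ≤ m → Curv2.IsMRegular k n F m := by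
  obtain ⟨N, hN⟩ := CohFinite.vanish_projSpace n k F hF
  refine ⟨N + n, fun m hm q hq hqn => ?_⟩
  obtain ⟨p, rfl⟩ : ∃ p, q = p + 1 := ⟨q - 1, by omega⟩
  obtain ⟨j, hj⟩ : ∃ j : ℕ, m - ((p + 1 : ℕ) : ℤ) = j := ⟨(m - ((p + 1 : ℕ) : ℤ)).toNat, by omega⟩
  rw [hj]
  obtain ⟨i⟩ := GrT.nonempty_iso_tensorPow (𝒜 := CohB1.polyGrading n k) (CohFinite.cov_one n k) j
  exact CohQC.hh_subsingleton_of_iso (PicGrp.tensorModIso (Iso.refl F) i.symm) _ (hN j (by omega) p)

section Coprod

variable {r : ℕ} (A : Fin r → (CohB1.ProjSpace n k).Modules)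

lemma exists_decomp (b : ℤ) (z : S (∐ A) b) :
    ∃ c : ∀ t, S (A t) b, z = ∑ t, sMap (Sigma.ι A t) b (c t) := by
  obtain ⟨π, -, -, h3⟩ := P1Split.exists_proj A
  refine ⟨fun t => sMap (π t) b z, ?_⟩
  have h : ev z (CohFinite.tmap (∑ t, π t ≫ Sigma.ι A t) (O' k n b)) = ev z (CohFinite.tmap (𝟙 (∐ A)) (O' k n b)) :=
    congrArg (fun ψ => ev z (CohFinite.tmap ψ (O' k n b))) h3
  rw [CohFinite.tmap_sum, map_sum, CohFinite.tmap_id] at h
  refine Eq.trans ?_ (h.symm.trans (Finset.sum_congr rfl fun t _ => sMap_comp (π t) (Sigma.ι A t) b z))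
  rfl

lemma sMap_sum {M N : (CohB1.ProjSpace n k).Modules} (φ : M ⟶ N) (b : ℤ) {ι : Type} [Fintype ι]
    (z : ι → S M b) : sMap φ b (∑ t, z t) = ∑ t, sMap φ b (z t) :=
  map_sum ((CohFinite.tmap φ (O' k n b)).app ⊤).hom z Finset.univ

lemma isCoh_coprod (h : ∀ t, Coh.IsCoh (A t)) : Coh.IsCoh (∐ A) := by
  haveI := Abelian.hasFiniteBiproducts (C := (CohB1.ProjSpace n k).Modules)
  have hb := Devissage.isCoh_biproduct A h
  exact Groth.Agent.QC.isCoh_of_epi hb (Groth.Agent.QC.isQCoh_of_iso (biproduct.isoCoproduct A) hb.1)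
    (biproduct.isoCoproduct A).hom

end Coprod

/-- A basis of the indecomposable sections in one degree. -/
lemma exists_quot_basis (F : (CohB1.ProjSpace n k).Modules) (hF : Coh.IsCoh F) (b : ℤ) :
    ∃ (d : ℕ) (v : Fin d → S F b),
      (∀ z, ∃ c : Fin d → Γ(CohB1.ProjSpace n k, ⊤), z - ∑ t, c t • v t ∈ Dec F b) ∧
        ∀ c : Fin d → Γ(CohB1.ProjSpace n k, ⊤), ∑ t, c t • v t ∈ Dec F b → c = 0 := by
  classical
  letI := (isField_top (k := k) (n := n)).toField
  obtain ⟨l, g, hg⟩ := LinRes.exists_span _ (CohFinite.isCoh_tensor hF (CohFinite.isInvertible_twist n k b))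
  haveI : Module.Finite Γ(CohB1.ProjSpace n k, ⊤) (S F b) :=
    ⟨⟨Finset.univ.image g, by rw [Finset.coe_image, Finset.coe_univ, Set.image_univ]; exact hg⟩⟩
  let B := Module.finBasis Γ(CohB1.ProjSpace n k, ⊤) (S F b ⧸ Dec F b)
  choose v hv using fun t => Submodule.mkQ_surjective (Dec F b) (B t)
  refine ⟨_, v, fun z => ⟨fun t => B.repr ((Dec F b).mkQ z) t, ?_⟩, fun c hc => ?_⟩
  · refine (Submodule.Quotient.mk_eq_zero _).1 ?_
    show (Dec F b).mkQ _ = 0
    rw [map_sub, map_sum]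
    simp only [map_smul, hv, B.sum_repr, sub_self]
  · have h1 : ∑ t, c t • B t = 0 := by
      simp only [← hv, ← map_smul, ← map_sum]
      exact (Submodule.Quotient.mk_eq_zero _).2 hc
    funext t
    exact Fintype.linearIndependent_iff.1 B.linearIndependent c h1 t

/-- Minimal generators of the module of sections of twists. -/
structure MinGens (F : (CohB1.ProjSpace n k).Modules) (n₀ : ℤ) : Type u where
  /-- number -/
  r : ℕ
  /-- degrees -/
  a : Fin r → ℤ
  /-- the map -/
  φ : (∐ fun i => O' k n (-(a i))) ⟶ F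
  lt : ∀ i, n₀ < a i
  span : ∀ (b : ℤ) (z : S F b), ∃ w, z - sMap φ b w ∈ Dec F b
  indep : ∀ (b : ℤ) (z : S (∐ fun i => O' k n (-(a i))) b),
    sMap φ b z ∈ Dec F b → z ∈ Dec (∐ fun i => O' k n (-(a i))) b

lemma exists_minGens (hn : 1 ≤ n) (F : (CohB1.ProjSpace n k).Modules) (hF : Coh.IsCoh F) (n₀ : ℤ)
    (h0 : ∀ b ≤ n₀, ∀ z : S F b, z = 0) : Nonempty (MinGens F n₀) := by
  classical
  obtain ⟨m, hm⟩ := exists_regular F hF
  choose d v hspan hindep using fun b : ℤ => exists_quot_basis F hF b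
  let R : Finset ℤ := Finset.Ioc n₀ m
  let I := Σ b : ↥R, Fin (d b.1)
  let e : Fin (Fintype.card I) ≃ I := (Fintype.equivFin I).symm
  let a : Fin (Fintype.card I) → ℤ := fun i => (e i).1.1
  let φ : (∐ fun i => O' k n (-(a i))) ⟶ F := Sigma.desc fun i => sec (a i) (v (e i).1.1 (e i).2)
  have hlt : ∀ i, n₀ < a i := fun i => (Finset.mem_Ioc.1 (e i).1.2).1
  refine ⟨⟨_, a, φ, hlt, fun b z => ?_, fun b z hz => ?_⟩⟩
  · by_cases hb : b ∈ R
    · obtain ⟨c, hc⟩ := hspan b z
      have hpre : ∀ t, ∃ w, sMap φ b w = v b t := by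
        intro t
        have key : ∀ (i : Fin (Fintype.card I)) (p : I), e i = p →
            ∃ w, sMap φ p.1.1 w = v p.1.1 p.2 := by
          rintro i _ rfl
          refine ⟨sMap (Sigma.ι (fun i => O' k n (-(a i))) i) (a i) (LinRes.gen₀ (etaTw k n (a i))), ?_⟩
          rw [← sMap_comp, Sigma.ι_desc]
          exact sec_gen _ _
        exact key (e.symm ⟨⟨b, hb⟩, t⟩) ⟨⟨b, hb⟩, t⟩ (e.apply_symm_apply _)
      choose w hw using hpre
      refine ⟨∑ t, c t • w t, ?_⟩
      have : sMap φ b (∑ t, c t • w t) = ∑ t, c t • v b t := by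
        rw [sMap_sum]
        refine Finset.sum_congr rfl fun t _ => ?_
        rw [← hw t]
        exact TMul.app_smul _ _ _
      rw [this]
      exact hc
    · refine ⟨0, ?_⟩
      rw [show sMap φ b (0 : S _ b) = 0 from map_zero _, sub_zero]
      rcases le_or_gt b n₀ with hb' | hb'
      · rw [h0 b hb' z]; exact zero_mem _
      · exact mem_Dec_of_regular F hF (b - 1) (hm _ (by
          have : ¬ b ≤ m := fun h => hb (Finset.mem_Ioc.2 ⟨hb', h⟩)
          omega)) b (by ring) z
  · obtain ⟨c, rfl⟩ := exists_decomp _ b z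
    rw [sMap_sum] at hz
    have hcomp : ∀ i, sMap φ b (sMap (Sigma.ι (fun i => O' k n (-(a i))) i) b (c i)) =
        sMap (sec (a i) (v (e i).1.1 (e i).2)) b (c i) := fun i => by
      rw [← sMap_comp, Sigma.ι_desc]
    simp only [hcomp] at hz
    refine Submodule.sum_mem _ fun i _ => ?_
    rcases lt_trichotomy (a i) b with hi | hi | hi
    · exact sMap_mem_Dec _ (twist_mem_Dec hi (c i))
    swap
    · rw [twist_sections_zero hi (c i) hn, show sMap _ b (0 : S _ b) = 0 from map_zero _]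
      exact zero_mem _
    -- the degree equals `b`: the coefficient vanishes by minimality
    subst hi
    let b₀ : ↥R := (e i).1
    have hQ : ∀ j, a j ≠ a i →
        sMap (sec (a j) (v (e j).1.1 (e j).2)) (a i) (c j) ∈ Dec F (a i) := by
      intro j hj
      rcases lt_or_gt_of_ne hj with hj | hj
      · exact sMap_mem_Dec _ (twist_mem_Dec hj (c j))
      · rw [twist_sections_zero hj (c j) hn, show sMap _ _ (0 : S _ (a i)) = 0 from map_zero _]
        exact zero_mem _
    -- rewrite the sum over the block of degree `a i`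
    let P : I → S F b₀.1 := fun p => sMap (sec p.1.1 (v p.1.1 p.2)) b₀.1
      (cast (by rw [show a (e.symm p) = p.1.1 from congrArg (fun q : I => q.1.1) (e.apply_symm_apply p)]) (c (e.symm p)))
    have hPi : ∀ j, P (e j) = sMap (sec (a j) (v (e j).1.1 (e j).2)) (a i) (c j) := by
      intro j
      have key : ∀ j' (h : (S (O' k n (-(a j'))) (a i)) = S (O' k n (-(a j))) (a i)), j' = j →
          cast h (c j') = c j := by
        rintro j' h rfl; rfl
      exact congrArg (sMap (sec (a j) (v (e j).1.1 (e j).2)) (a i)) (key _ _ (e.symm_apply_apply j))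
    have hsum : ∑ p, P p ∈ Dec F b₀.1 := by
      rw [← e.sum_comp P]
      simp only [hPi]
      exact hz
    choose c' hc' using fun t : Fin (d b₀.1) => exists_smul_gen b₀.1
      (cast (by
        have h := congrArg (fun q : I => (q.1.1 : ℤ)) (e.apply_symm_apply (⟨b₀, t⟩ : I))
        change a (e.symm (⟨b₀, t⟩ : I)) = b₀.1 at h
        rw [h])
        (c (e.symm ⟨b₀, t⟩)) : S (O' k n (-b₀.1)) b₀.1)
    have hPb : ∀ t, P ⟨b₀, t⟩ = c' t • v b₀.1 t := fun t => by
      show sMap (sec b₀.1 (v b₀.1 t)) b₀.1 _ = _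
      rw [hc' t]
      refine (TMul.app_smul _ _ _).trans ?_
      exact congrArg (c' t • ·) (sec_gen _ _)
    have hblock : ∑ t, c' t • v b₀.1 t ∈ Dec F b₀.1 := by
      rw [← Finset.sum_congr rfl fun t _ => hPb t]
      rw [Fintype.sum_sigma, ← Finset.add_sum_erase _ _ (Finset.mem_univ b₀)] at hsum
      refine (Submodule.add_mem_iff_left _ (Submodule.sum_mem _ fun q hq => Submodule.sum_mem _ fun t _ => ?_)).1 hsum
      have : P ⟨q, t⟩ = sMap (sec (a (e.symm ⟨q, t⟩)) (v (e (e.symm ⟨q, t⟩)).1.1 (e (e.symm ⟨q, t⟩)).2)) (a i)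
          (c (e.symm ⟨q, t⟩)) := by
        rw [← hPi, e.apply_symm_apply]
      rw [this]
      refine hQ _ ?_
      show (e (e.symm ⟨q, t⟩)).1.1 ≠ b₀.1
      rw [e.apply_symm_apply]
      exact fun h => (Finset.mem_erase.1 hq).1 (Subtype.ext h)
    have hzero := congrFun (hindep _ c' hblock) (e i).2
    have hci : c i = 0 := by
      have h2 := hc' (e i).2
      rw [hzero, Pi.zero_apply, zero_smul] at h2
      have key : ∀ j' (h : (S (O' k n (-(a j'))) (a i)) = S (O' k n (-(a i))) (a i)), j' = i →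
          cast h (c j') = c i := by
        rintro j' h rfl; rfl
      exact ((key _ _ (e.symm_apply_apply i)).symm.trans h2)
    rw [hci, show sMap _ _ (0 : S _ (a i)) = 0 from map_zero _]
    exact zero_mem _

/-- Horrocks' criterion. -/
theorem exists_iso (hn : 1 ≤ n) (F : (CohB1.ProjSpace n k).Modules) (hF : Coh.IsCoh F) (n₀ : ℤ)
    (h0 : ∀ b ≤ n₀, ∀ z : S F b, z = 0)
    (hmid : ∀ (b : ℤ) (q : ℕ), 1 ≤ q → q < n →
      Subsingleton (Coh.HH (CohB1.ProjSpace n k) (CohB1.tensorMod F (O' k n b)) q)) :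
    ∃ (r : ℕ) (a : Fin r → ℤ), Nonempty (F ≅ ∐ fun i => Twist.twistProjSpace n k (a i)) := by
  haveI : AlgebraicGeometry.IsNoetherian (CohB1.ProjSpace n k) := CohFinite.isNoetherian_projSpace n k
  obtain ⟨g⟩ := exists_minGens hn F hF n₀ h0
  let φ := g.φ
  have hTc := isCoh_coprod (fun i => O' k n (-(g.a i))) fun i => CohFinite.isCoh_twist n k _
  have hT0 : ∀ b ≤ n₀, ∀ z : S (∐ fun i => O' k n (-(g.a i))) b, z = 0 := fun b hb z => by
    obtain ⟨c, rfl⟩ := exists_decomp _ b z
    refine Finset.sum_eq_zero fun i _ => ?_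
    rw [twist_sections_zero (by have := g.lt i; omega) (c i) hn]
    exact map_zero _
  have hsurj : ∀ (N : ℕ) (b : ℤ), b ≤ n₀ + N → Function.Surjective (sMap φ b) := by
    intro N
    induction N with
    | zero => exact fun b hb z => ⟨0, (map_zero _).trans (h0 b (by simpa using hb) z).symm⟩
    | succ N ih =>
      intro b hb z
      obtain ⟨w, hw⟩ := g.span b z
      obtain ⟨u, hu⟩ := (mem_Dec F).1 hw
      obtain ⟨u', rfl⟩ := kosMap_surj φ (n₀ + N) ih (xs k n) 1 b (by push_cast at hb ⊢; omega) u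
      refine ⟨w + sMap (aug _) b u', ?_⟩
      rw [sMap_add, ← sMap_comp (aug _) φ, ← aug_natural, sMap_comp]
      exact (congrArg (sMap φ b w + ·) hu).trans (add_sub_cancel _ _)
  have hsurj' : ∀ b, Function.Surjective (sMap φ b) := fun b => hsurj (b - n₀).toNat b (by omega)
  have hinj : ∀ (N : ℕ) (b : ℤ), b ≤ n₀ + N → Function.Injective (sMap φ b) := by
    intro N
    induction N with
    | zero => exact fun b hb x y _ => (hT0 b (by simpa using hb) x).trans (hT0 b (by simpa using hb) y).symm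
    | succ N ih =>
      intro b hb x y hxy
      rw [← sub_eq_zero]
      have hr : sMap φ b (x - y) = 0 := by rw [sMap_sub, hxy, sub_self]
      obtain ⟨u, hu⟩ := (mem_Dec _).1 (g.indep b (x - y) (by rw [show sMap g.φ b (x - y) = 0 from hr]; exact zero_mem _))
      have hcyc : sMap (aug F) b (sMap (Kmap φ 1) b u) = 0 := by
        rw [← sMap_comp, aug_natural, sMap_comp, hu, hr]
      obtain ⟨c, hc⟩ := exists_boundary F hmid b _ hcyc hn
      obtain ⟨q, rfl⟩ := kosMap_surj φ (b - 2) (fun b' _ => hsurj' b') (xs k n) 2 b (by push_cast; omega) c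
      have h1 : sMap (Kmap φ 1) b (u - sMap ((K _).d 1) b q) = 0 := by
        rw [sMap_sub, ← sMap_comp ((K _).d 1), ← d_natural, sMap_comp, hc, sub_self]
      have h2 := kosMap_inj φ (n₀ + N) ih (xs k n) 1 b (by push_cast at hb ⊢; omega)
        (h1.trans (map_zero _).symm)
      rw [← hu, sub_eq_zero.1 h2, ← sMap_comp, d_aug, sMap_zero]
  haveI : Mono φ := Preadditive.mono_of_kernel_zero (eq_zero_of_sMap
    (Groth.Agent.QC.isCoh_kernel hTc hF.1 φ) _ fun b z => hinj (b - n₀).toNat b (by omega)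
      (by rw [← sMap_comp, kernel.condition, sMap_zero]; exact (map_zero _).symm))
  haveI : Epi φ := Abelian.epi_of_cokernel_π_eq_zero φ (eq_zero_of_sMap hF _ fun b z => by
    obtain ⟨w, rfl⟩ := hsurj' b z
    rw [← sMap_comp, cokernel.condition, sMap_zero])
  haveI : IsIso φ := isIso_of_mono_of_epi φ
  exact ⟨g.r, fun i => -(g.a i), ⟨(asIso φ).symm⟩⟩

end Groth.Agent.HorrocksPn
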