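import Groth.Agent.RegTilde.Mumford

/-!
Functoriality of the Koszul complex in the coefficient module.
-/

set_option autoImplicit false
set_option linter.unusedSectionVars false
set_option linter.style.haveILetI false
set_option backward.isDefEq.respectTransparency false

universe u

open CategoryTheory CategoryTheory.Limits AlgebraicGeometry TopologicalSpace Opposite
open Groth.Agent.RegKos

noncomputable section

namespace Groth.Agent.HorrocksPn

variable {X : Scheme.{u}} {L L' : X.Modules}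

/-- The map of cones. -/
def coneMap {C D : Cx X} (f : ∀ s, C.obj s ⟶ D.obj s) : ∀ s, coneObj L' C s ⟶ coneObj L' D s
  | 0 => f 0
  | s + 1 => biprod.map (f (s + 1)) (CohFinite.tmap (f s) L')

lemma coneMap_comm (η : CohB1.tensorMod L' L ≅ Coh.structureModule X) (a : Γ(L, ⊤)) {C D : Cx X}
    (f : ∀ s, C.obj s ⟶ D.obj s) (h : ∀ s, f (s + 1) ≫ D.d s = C.d s ≫ f s) :
    ∀ s, coneMap (L' := L') f (s + 1) ≫ coneD η a D s = coneD η a C s ≫ coneMap (L' := L') f s
  | 0 => by
    show biprod.map _ _ ≫ biprod.desc _ _ = biprod.desc _ _ ≫ f 0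
    refine biprod.hom_ext' _ _ ?_ ?_
    · rw [biprod.inl_map_assoc, biprod.inl_desc, biprod.inl_desc_assoc, h]
    · rw [biprod.inr_map_assoc, biprod.inr_desc, biprod.inr_desc_assoc, mulX_natural]
  | s + 1 => by
    show biprod.map _ _ ≫ biprod.lift _ _ = biprod.lift _ _ ≫ biprod.map _ _
    refine biprod.hom_ext' _ _ ?_ ?_ <;> refine biprod.hom_ext _ _ ?_ ?_
    · simp [h]
    · simp
    · simp [mulX_natural]
    · simp only [Category.assoc, biprod.map_snd, biprod.lift_snd, biprod.inr_map_assoc, biprod.inr_desc,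
        biprod.lift_snd_assoc, biprod.inr_desc_assoc]
      simp only [Preadditive.neg_comp, Preadditive.comp_neg, ← CohFinite.tmap_comp, h]

variable (η : CohB1.tensorMod L' L ≅ Coh.structureModule X)

/-- The map of Koszul complexes. -/
def kosMap {G H : X.Modules} (φ : G ⟶ H) :
    ∀ (l : List Γ(L, ⊤)) (s : ℕ), (kos η G l).obj s ⟶ (kos η H l).obj s
  | [], 0 => φ
  | [], _ + 1 => 𝟙 _
  | _ :: l, s => coneMap (kosMap φ l) s

lemma kosMap_comm {G H : X.Modules} (φ : G ⟶ H) :
    ∀ (l : List Γ(L, ⊤)) (s : ℕ),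
      kosMap η φ l (s + 1) ≫ (kos η H l).d s = (kos η G l).d s ≫ kosMap η φ l s
  | [], s => by
    show _ ≫ (0 : (single H).obj (s + 1) ⟶ _) = (0 : (single G).obj (s + 1) ⟶ _) ≫ _
    rw [comp_zero, zero_comp]
  | b :: l, s => coneMap_comm η b (kosMap η φ l) (kosMap_comm φ l) s

/-- The degree zero term. -/
def e0 (G : X.Modules) : ∀ l : List Γ(L, ⊤), (kos η G l).obj 0 ≅ G
  | [] => Iso.refl _
  | _ :: l => e0 G l

lemma e0_natural {G H : X.Modules} (φ : G ⟶ H) :
    ∀ l : List Γ(L, ⊤), kosMap η φ l 0 ≫ (e0 η H l).hom = (e0 η G l).hom ≫ φ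
  | [] => (Category.comp_id _).trans (Category.id_comp _).symm
  | _ :: l => e0_natural φ l

lemma isZero_of_epi_zero {A B : X.Modules} (hA : IsZero A) (p : A ⟶ B) [Epi p] : IsZero B := by
  rw [IsZero.iff_id_eq_zero, ← cancel_epi p]
  exact hA.eq_of_src _ _

/-- The complex vanishes beyond the number of sections. -/
lemma isZero_kos (G : X.Modules) :
    ∀ (l : List Γ(L, ⊤)) (s : ℕ), l.length < s → IsZero ((kos η G l).obj s)
  | [], s + 1, _ => initialIsInitial.isZero
  | b :: l, s + 1, h => by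
    have h1 := isZero_kos G l (s + 1) (by simp at h; omega)
    have h2 := isZero_kos G l s (by simp at h; omega)
    have h3 : IsZero (CohB1.tensorMod ((kos η G l).obj s) L') := by
      rw [IsZero.iff_id_eq_zero, ← CohFinite.tmap_id, h2.eq_of_src (𝟙 _) 0, CohFinite.tmap_zero]
    show IsZero ((kos η G l).obj (s + 1) ⊞ CohB1.tensorMod ((kos η G l).obj s) L')
    rw [IsZero.iff_id_eq_zero]
    exact biprod.hom_ext' _ _ (h1.eq_of_src _ _) (h3.eq_of_src _ _)

end Groth.Agent.HorrocksPn
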