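import Groth.Agent.HorrocksPn.KosMap
import Groth.Agent.RegTilde.LinRes
import Groth.Agent.DQCoh.Serre

/-!
Global sections of twists along the Koszul complex of the coordinates on projective space.
-/

set_option autoImplicit false
set_option linter.unusedSectionVars false
set_option linter.style.haveILetI false
set_option backward.isDefEq.respectTransparency false

universe u

open CategoryTheory CategoryTheory.Limits AlgebraicGeometry TopologicalSpace Opposite
open Groth.Agent.RegKos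
open Groth.Agent.Mumford (O' eta secX whisk whisk_tm)

noncomputable section

namespace Groth.Agent.HorrocksPn

section General

variable {X : Scheme.{u}}

/-- `G ⊗ -` on isomorphisms. -/
def whiskIso (G : X.Modules) {A B : X.Modules} (i : A ≅ B) : CohB1.tensorMod G A ≅ CohB1.tensorMod G B where
  hom := whisk G i.hom
  inv := whisk G i.inv
  hom_inv_id := TMul.hom_ext fun U g a => by
    show (whisk G i.inv).app U ((whisk G i.hom).app U (TMul.tm g a)) = TMul.tm g a
    rw [whisk_tm, whisk_tm]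
    exact congrArg (TMul.tm g) (congrArg (ev a) i.hom_inv_id)
  inv_hom_id := TMul.hom_ext fun U g a => by
    show (whisk G i.hom).app U ((whisk G i.inv).app U (TMul.tm g a)) = TMul.tm g a
    rw [whisk_tm, whisk_tm]
    exact congrArg (TMul.tm g) (congrArg (ev a) i.inv_hom_id)

lemma tmap_whisk {M N A B : X.Modules} (φ : M ⟶ N) (i : A ⟶ B) :
    CohFinite.tmap φ A ≫ whisk N i = whisk M i ≫ CohFinite.tmap φ B :=
  TMul.hom_ext fun U m a => by
    show (whisk N i).app U ((CohFinite.tmap φ A).app U (TMul.tm m a)) =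
      (CohFinite.tmap φ B).app U ((whisk M i).app U (TMul.tm m a))
    rw [CohFinite.tmap_tm, whisk_tm, whisk_tm, CohFinite.tmap_tm]

lemma tmap_assoc {M N A B : X.Modules} (φ : M ⟶ N) :
    CohFinite.tmap (CohFinite.tmap φ A) B ≫ TMul.assocHom N A B =
      TMul.assocHom M A B ≫ CohFinite.tmap φ (CohB1.tensorMod A B) :=
  TMul.hom_ext₃ fun U m a b => by
    show (TMul.assocHom N A B).app U ((CohFinite.tmap (CohFinite.tmap φ A) B).app U (TMul.tm (TMul.tm m a) b)) =
      (CohFinite.tmap φ (CohB1.tensorMod A B)).app U ((TMul.assocHom M A B).app U (TMul.tm (TMul.tm m a) b))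
    rw [CohFinite.tmap_tm, CohFinite.tmap_tm, TMul.assocHom_tm, TMul.assocHom_tm, CohFinite.tmap_tm]

lemma app_bijective {M N : X.Modules} (e : M ≅ N) (W : X.Opens) : Function.Bijective (e.hom.app W) :=
  ⟨Function.LeftInverse.injective (g := e.inv.app W) fun p => congrArg (ev p) e.hom_inv_id,
    Function.RightInverse.surjective (g := e.inv.app W) fun p => congrArg (ev p) e.inv_hom_id⟩

/-- Injectivity and surjectivity on global sections transfer along isomorphisms. -/
lemma transfer {M N M' N' : X.Modules} (f : M ⟶ N) (f' : M' ⟶ N') (eM : M ≅ M') (eN : N ≅ N')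
    (h : f ≫ eN.hom = eM.hom ≫ f') :
    (Function.Injective (f'.app ⊤) → Function.Injective (f.app ⊤)) ∧
      (Function.Surjective (f'.app ⊤) → Function.Surjective (f.app ⊤)) := by
  have hc : ∀ z, eN.hom.app ⊤ (f.app ⊤ z) = f'.app ⊤ (eM.hom.app ⊤ z) := fun z => congrArg (ev z) h
  refine ⟨fun hi a b hab => (app_bijective eM ⊤).1 (hi ?_), fun hs z => ?_⟩
  · rw [← hc, ← hc, hab]
  · obtain ⟨w, hw⟩ := hs (eN.hom.app ⊤ z)
    obtain ⟨v, rfl⟩ := (app_bijective eM ⊤).2 w
    exact ⟨v, (app_bijective eN ⊤).1 ((hc v).trans hw)⟩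

lemma sections_eq_zero_of_isZero {M : X.Modules} (hM : IsZero M) (A : X.Modules)
    (z : Γ(CohB1.tensorMod M A, ⊤)) : z = 0 := by
  have h : 𝟙 (CohB1.tensorMod M A) = 0 := by
    rw [← CohFinite.tmap_id, hM.eq_of_src (𝟙 M) 0, CohFinite.tmap_zero]
  exact congrArg (ev z) h

/-- Corestriction of the differential to the kernel of the next one. -/
def toKer (C : Cx X) (s : ℕ) : C.obj (s + 1 + 1) ⟶ kernel (C.d s) :=
  kernel.lift _ (C.d (s + 1)) (C.dd s)

lemma epi_toKer (C : Cx X) (s : ℕ) (h : (ShortComplex.mk _ _ (C.dd s)).Exact) : Epi (toKer C s) :=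
  (ShortComplex.exact_iff_epi_kernel_lift _).1 h

lemma toKer_ι (C : Cx X) (s : ℕ) : toKer C s ≫ kernel.ι (C.d s) = C.d (s + 1) := kernel.lift_ι _ _ _

lemma ι_toKer (C : Cx X) (s : ℕ) : kernel.ι (C.d (s + 1)) ≫ toKer C s = 0 := by
  rw [← cancel_mono (kernel.ι (C.d s)), Category.assoc, toKer_ι, kernel.condition, zero_comp]

lemma shortExact_toKer (C : Cx X) (s : ℕ) (h : (ShortComplex.mk _ _ (C.dd s)).Exact) :
    (ShortComplex.mk (kernel.ι (C.d (s + 1))) (toKer C s) (ι_toKer C s)).ShortExact :=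
  { exact := ShortComplex.exact_of_f_is_kernel _
      (KernelFork.IsLimit.ofι _ _
        (fun x hx => kernel.lift _ x (by rw [← toKer_ι, ← Category.assoc]; exact (congrArg (· ≫ _) hx).trans zero_comp))
        (fun x hx => kernel.lift_ι _ _ _)
        (fun x hx m hm => by rw [← cancel_mono (kernel.ι (C.d (s + 1))), hm, kernel.lift_ι]))
    mono_f := inferInstanceAs (Mono (kernel.ι _))
    epi_g := epi_toKer C s h }

end General

variable {k : Type u} [Field k] {n : ℕ}

/-- `Γ(M(b))`. -/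
abbrev S (M : (CohB1.ProjSpace n k).Modules) (b : ℤ) : Type u := Γ(CohB1.tensorMod M (O' k n b), ⊤)

/-- `φ(b)` on global sections. -/
abbrev sMap {M N : (CohB1.ProjSpace n k).Modules} (φ : M ⟶ N) (b : ℤ) : S M b → S N b :=
  (CohFinite.tmap φ (O' k n b)).app ⊤

lemma sMap_comp {M N P : (CohB1.ProjSpace n k).Modules} (φ : M ⟶ N) (ψ : N ⟶ P) (b : ℤ) (z : S M b) :
    sMap (φ ≫ ψ) b z = sMap ψ b (sMap φ b z) :=
  congrArg (ev z) (CohFinite.tmap_comp φ ψ (O' k n b))

lemma sMap_zero {M N : (CohB1.ProjSpace n k).Modules} (b : ℤ) (z : S M b) :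
    sMap (0 : M ⟶ N) b z = 0 :=
  congrArg (ev z) (CohFinite.tmap_zero (O' k n b))

lemma sMap_add {M N : (CohB1.ProjSpace n k).Modules} (φ : M ⟶ N) (b : ℤ) (z z' : S M b) :
    sMap φ b (z + z') = sMap φ b z + sMap φ b z' :=
  map_add _ _ _

lemma sMap_sub {M N : (CohB1.ProjSpace n k).Modules} (φ : M ⟶ N) (b : ℤ) (z z' : S M b) :
    sMap φ b (z - z') = sMap φ b z - sMap φ b z' :=
  map_sub _ _ _

lemma sMap_id {M : (CohB1.ProjSpace n k).Modules} (b : ℤ) (z : S M b) : sMap (𝟙 M) b z = z :=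
  congrArg (ev z) (CohFinite.tmap_id M (O' k n b))

lemma sMap_twist {M N : (CohB1.ProjSpace n k).Modules} (φ : M ⟶ N) (a b c : ℤ) (h : a + b = c) :
    (Function.Injective (sMap φ c) → Function.Injective (sMap (CohFinite.tmap φ (O' k n a)) b)) ∧
      (Function.Surjective (sMap φ c) → Function.Surjective (sMap (CohFinite.tmap φ (O' k n a)) b)) := by
  obtain ⟨i⟩ := RegCx.twist_twist (k := k) (n := n) a b c h
  refine transfer _ _ (TMul.assocIso M _ _ ≪≫ whiskIso M i) (TMul.assocIso N _ _ ≪≫ whiskIso N i) ?_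
  show CohFinite.tmap (CohFinite.tmap φ _) _ ≫ TMul.assocHom N _ _ ≫ whisk N i.hom =
    (TMul.assocHom M _ _ ≫ whisk M i.hom) ≫ CohFinite.tmap φ _
  rw [← Category.assoc, tmap_assoc, Category.assoc, Category.assoc, tmap_whisk]

lemma sMap_parts {A B : (CohB1.ProjSpace n k).Modules} (b : ℤ) (z : S (A ⊞ B) b) :
    sMap (biprod.inl : A ⟶ A ⊞ B) b (sMap (biprod.fst : A ⊞ B ⟶ A) b z) +
      sMap (biprod.inr : B ⟶ A ⊞ B) b (sMap (biprod.snd : A ⊞ B ⟶ B) b z) = z := by
  rw [← sMap_comp, ← sMap_comp]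
  refine Eq.trans ?_ (sMap_id b z)
  have h := congrArg (ev z) (CohFinite.tmap_add (biprod.fst ≫ biprod.inl : A ⊞ B ⟶ A ⊞ B)
    (biprod.snd ≫ biprod.inr) (O' k n b))
  rw [biprod.total, map_add] at h
  exact h.symm

lemma sMap_biprod {A B A' B' : (CohB1.ProjSpace n k).Modules} (f : A ⟶ A') (g : B ⟶ B') (b : ℤ) :
    (Function.Injective (sMap f b) → Function.Injective (sMap g b) →
      Function.Injective (sMap (biprod.map f g) b)) ∧
    (Function.Surjective (sMap f b) → Function.Surjective (sMap g b) →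
      Function.Surjective (sMap (biprod.map f g) b)) := by
  refine ⟨fun hf hg x y hxy => ?_, fun hf hg z => ?_⟩
  · have h1 : sMap (biprod.fst : A ⊞ B ⟶ A) b x = sMap biprod.fst b y := hf (by
      rw [← sMap_comp, ← sMap_comp, ← biprod.map_fst f g, sMap_comp, sMap_comp, hxy])
    have h2 : sMap (biprod.snd : A ⊞ B ⟶ B) b x = sMap biprod.snd b y := hg (by
      rw [← sMap_comp, ← sMap_comp, ← biprod.map_snd f g, sMap_comp, sMap_comp, hxy])
    rw [← sMap_parts b x, ← sMap_parts b y, h1, h2]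
  · obtain ⟨p, hp⟩ := hf (sMap (biprod.fst : A' ⊞ B' ⟶ A') b z)
    obtain ⟨q, hq⟩ := hg (sMap (biprod.snd : A' ⊞ B' ⟶ B') b z)
    refine ⟨sMap biprod.inl b p + sMap biprod.inr b q, ?_⟩
    rw [sMap_add, ← sMap_comp, ← sMap_comp, biprod.inl_map, biprod.inr_map, sMap_comp, sMap_comp, hp, hq]
    exact sMap_parts b z

variable (k n) in
/-- The coordinates, as sections of `O(1)`. -/
abbrev xs : List Γ(O' k n 1, ⊤) := List.ofFn secX

/-- The Koszul complex of the coordinates. -/
abbrev K (G : (CohB1.ProjSpace n k).Modules) : Cx (CohB1.ProjSpace n k) := kos (eta k n) G (xs k n)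

/-- The map of Koszul complexes of the coordinates. -/
abbrev Kmap {M N : (CohB1.ProjSpace n k).Modules} (φ : M ⟶ N) (s : ℕ) :
    (K M).obj s ⟶ (K N).obj s :=
  kosMap (eta k n) φ (xs k n) s

lemma kosMap_inj {M N : (CohB1.ProjSpace n k).Modules} (φ : M ⟶ N) (B : ℤ)
    (h : ∀ b ≤ B, Function.Injective (sMap φ b)) :
    ∀ (l : List Γ(O' k n 1, ⊤)) (s : ℕ) (b : ℤ), b ≤ B + s →
      Function.Injective (sMap (kosMap (eta k n) φ l s) b)
  | [], 0, b, hb => h b (by simpa using hb)
  | [], s + 1, b, _ => fun x y _ =>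
    (sections_eq_zero_of_isZero initialIsInitial.isZero _ x).trans
      (sections_eq_zero_of_isZero initialIsInitial.isZero _ y).symm
  | _ :: l, 0, b, hb => kosMap_inj φ B h l 0 b hb
  | _ :: l, s + 1, b, hb => (sMap_biprod _ _ b).1 (kosMap_inj φ B h l (s + 1) b hb)
      ((sMap_twist _ (-1) b (b - 1) (by ring)).1 (kosMap_inj φ B h l s (b - 1) (by push_cast at hb; omega)))

lemma kosMap_surj {M N : (CohB1.ProjSpace n k).Modules} (φ : M ⟶ N) (B : ℤ)
    (h : ∀ b ≤ B, Function.Surjective (sMap φ b)) :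
    ∀ (l : List Γ(O' k n 1, ⊤)) (s : ℕ) (b : ℤ), b ≤ B + s →
      Function.Surjective (sMap (kosMap (eta k n) φ l s) b)
  | [], 0, b, hb => h b (by simpa using hb)
  | [], s + 1, b, _ => fun x => ⟨0, (map_zero _).trans
      (sections_eq_zero_of_isZero initialIsInitial.isZero _ x).symm⟩
  | _ :: l, 0, b, hb => kosMap_surj φ B h l 0 b hb
  | _ :: l, s + 1, b, hb => (sMap_biprod _ _ b).2 (kosMap_surj φ B h l (s + 1) b hb)
      ((sMap_twist _ (-1) b (b - 1) (by ring)).2 (kosMap_surj φ B h l s (b - 1) (by push_cast at hb; omega)))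

/-- Vanishing for the terms of the Koszul complex. -/
lemma kos_vanish (G : (CohB1.ProjSpace n k).Modules) (q : ℕ)
    (h : ∀ b : ℤ, Subsingleton (Coh.HH (CohB1.ProjSpace n k) (CohB1.tensorMod G (O' k n b)) q)) :
    ∀ (l : List Γ(O' k n 1, ⊤)) (s : ℕ) (b : ℤ),
      Subsingleton (Coh.HH (CohB1.ProjSpace n k) (CohB1.tensorMod ((kos (eta k n) G l).obj s) (O' k n b)) q)
  | [], 0, b => h b
  | [], s + 1, b => CohFinite.subsingleton_of_split _ (fun e : Fin 0 => e.elim0) (fun e => e.elim0)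
      (fun e => e.elim0) (by
        rw [← CohFinite.tmap_id, show (𝟙 ((kos (eta k n) G []).obj (s + 1))) = 0 from
          initialIsInitial.isZero.eq_of_src _ _, CohFinite.tmap_zero]
        simp) q fun e => e.elim0
  | _ :: l, 0, b => kos_vanish G q h l 0 b
  | _ :: l, s + 1, b => CohQC.subsingleton_hh_middle
      (CohFinite.shortExact_tmap (CohFinite.isInvertible_twist n k b)
        (ShortComplex.Splitting.ofHasBinaryBiproduct _ _).shortExact) q (kos_vanish G q h l (s + 1) b)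
      (RegCx.hh_twist_twist _ (-1) b (b - 1) (by ring) q (kos_vanish G q h l s (b - 1)))

variable (G : (CohB1.ProjSpace n k).Modules)

lemma locEx (x : CohB1.ProjSpace n k) : LocEx (K G) (Mumford.chart x) :=
  locEx_kos (eta k n) (CohFinite.isInvertible_twist n k (-1)) G _
    ⟨_, List.mem_ofFn.2 ⟨_, rfl⟩, Mumford.secX_isGen _⟩

instance epi_d0 : Epi ((K G).d 0) := epi_of_locEx (K G) Mumford.chart Mumford.mem_chart (locEx G)

lemma exact_K (s : ℕ) : (ShortComplex.mk _ _ ((K G).dd s)).Exact :=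
  exact_of_locEx (K G) Mumford.chart Mumford.mem_chart (locEx G) s

/-- The augmentation `K_1 → G`. -/
def aug : (K G).obj 1 ⟶ G := (K G).d 0 ≫ (e0 (eta k n) G (xs k n)).hom

lemma d_aug : (K G).d 1 ≫ aug G = 0 := by
  rw [aug, ← Category.assoc, (K G).dd, zero_comp]

lemma aug_natural {M N : (CohB1.ProjSpace n k).Modules} (φ : M ⟶ N) : Kmap φ 1 ≫ aug N = aug M ≫ φ := by
  rw [aug, aug, ← Category.assoc, kosMap_comm, Category.assoc, e0_natural, Category.assoc]

lemma d_natural {M N : (CohB1.ProjSpace n k).Modules} (φ : M ⟶ N) (s : ℕ) :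
    Kmap φ (s + 1) ≫ (K N).d s = (K M).d s ≫ Kmap φ s :=
  kosMap_comm (eta k n) φ (xs k n) s

/-- Decomposable sections: `Σ x_i · Γ(G(b-1))`. -/
def Dec (b : ℤ) : Submodule Γ(CohB1.ProjSpace n k, ⊤) (S G b) :=
  LinearMap.range
    ({ toFun := sMap (aug G) b
       map_add' := map_add _
       map_smul' := fun r x => TMul.app_smul _ r x } :
      S ((K G).obj 1) b →ₗ[Γ(CohB1.ProjSpace n k, ⊤)] S G b)

lemma mem_Dec {b : ℤ} {z : S G b} : z ∈ Dec G b ↔ ∃ u, sMap (aug G) b u = z := Iff.rfl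

lemma sMap_mem_Dec {M N : (CohB1.ProjSpace n k).Modules} (φ : M ⟶ N) {b : ℤ} {z : S M b} (hz : z ∈ Dec M b) :
    sMap φ b z ∈ Dec N b := by
  obtain ⟨u, rfl⟩ := (mem_Dec M).1 hz
  exact (mem_Dec N).2 ⟨sMap (Kmap φ 1) b u, by rw [← sMap_comp, aug_natural, sMap_comp]⟩

/-- In degrees above the regularity all sections are decomposable. -/
lemma mem_Dec_of_regular (hG : Coh.IsCoh G) (m : ℤ) (hreg : Curv2.IsMRegular k n G m) (b : ℤ) (hb : b = m + 1)
    (z : S G b) : z ∈ Dec G b := by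
  subst hb
  haveI : Mono (cokernel.desc ((K G).d 1) ((K G).d 0) ((K G).dd 0)) :=
    (exact_K G 0).mono_cokernelDesc
  let e : Abelian.image ((K G).d 1) ≅ kernel ((K G).d 0) :=
    (kernelCompMono (cokernel.π ((K G).d 1))
      (cokernel.desc ((K G).d 1) ((K G).d 0) ((K G).dd 0))).symm ≪≫
      kernelIsoOfEq (cokernel.π_desc _ _ _)
  let e' : Abelian.image ((K G).d 1) ≅ kernel (aug G) :=
    e ≪≫ (kernelCompMono ((K G).d 0) (e0 (eta k n) G (xs k n)).hom).symm
  haveI : Epi (aug G) := epi_comp _ _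
  have hS : (ShortComplex.mk (kernel.ι (aug G)) (aug G) (kernel.condition _)).ShortExact :=
    { exact := ShortComplex.exact_of_f_is_kernel _ (kernelIsKernel _) }
  have h1 := Mumford.regular_chain G hG m hreg 1 1 le_rfl
  rw [show m + ((1 : ℕ) : ℤ) + 1 - ((1 : ℕ) : ℤ) = m + 1 by push_cast; ring] at h1
  obtain ⟨u, hu⟩ := CohQC.sections_surjective_top
    (CohQC.seq_shortExact (CohFinite.shortExact_tmap (CohFinite.isInvertible_twist n k (m + 1)) hS))
    (CohQC.hh_subsingleton_of_iso (PicGrp.tensorModIso e' (Iso.refl _)) _ h1) z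
  exact (mem_Dec G).2 ⟨u, hu⟩

lemma kernel_vanish
    (h : ∀ (b : ℤ) (q : ℕ), 1 ≤ q → q < n →
      Subsingleton (Coh.HH (CohB1.ProjSpace n k) (CohB1.tensorMod G (O' k n b)) q))
    (b : ℤ) : ∀ (t j s : ℕ), 1 ≤ j → j + t = n → n ≤ s + t →
      Subsingleton (Coh.HH (CohB1.ProjSpace n k) (CohB1.tensorMod (kernel ((K G).d s)) (O' k n b)) j) := by
  intro t
  induction t with
  | zero =>
    intro j s _ _ hs
    have hlen : (xs k n).length < s + 1 + 1 := by rw [List.length_ofFn]; omega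
    haveI := epi_toKer (K G) s (exact_K G s)
    have hZ := isZero_of_epi_zero (isZero_kos (eta k n) G (xs k n) (s + 1 + 1) hlen) (toKer (K G) s)
    exact CohFinite.subsingleton_of_split _ (fun e : Fin 0 => e.elim0) (fun e => e.elim0) (fun e => e.elim0) (by
      rw [← CohFinite.tmap_id, hZ.eq_of_src (𝟙 _) 0, CohFinite.tmap_zero]
      simp) j fun e => e.elim0
  | succ t ih =>
    intro j s hj hjt hs
    exact CohFinite.subsingleton_of_shortExact
      (CohFinite.shortExact_tmap (CohFinite.isInvertible_twist n k b) (shortExact_toKer (K G) s (exact_K G s))) j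
      (kos_vanish G j (fun b => h b j hj (by omega)) (xs k n) _ b) (ih (j + 1) (s + 1) (by omega) (by omega) (by omega))

/-- Cycles in position one are boundaries, given vanishing of the middle cohomology. -/
theorem exists_boundary
    (h : ∀ (b : ℤ) (q : ℕ), 1 ≤ q → q < n →
      Subsingleton (Coh.HH (CohB1.ProjSpace n k) (CohB1.tensorMod G (O' k n b)) q))
    (b : ℤ) (z : S ((K G).obj 1) b) (hz : sMap (aug G) b z = 0) (hn : 1 ≤ n) :
    ∃ c, sMap ((K G).d 1) b c = z := by
  haveI : Epi ((K G).d 0) := Mumford.epi_d0 G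
  have hS0 : (ShortComplex.mk (kernel.ι ((K G).d 0)) ((K G).d 0) (kernel.condition _)).ShortExact :=
    { exact := ShortComplex.exact_of_f_is_kernel _ (kernelIsKernel _) }
  have hz0 : sMap ((K G).d 0) b z = 0 := by
    have h1 := congrArg (sMap (e0 (eta k n) G (xs k n)).inv b) hz
    rw [← sMap_comp, aug, Category.assoc, Iso.hom_inv_id, Category.comp_id] at h1
    exact h1.trans (map_zero _)
  obtain ⟨w, hw⟩ := Groth.Agent.DQCoh.exists_app_eq
    (CohFinite.shortExact_tmap (CohFinite.isInvertible_twist n k b) hS0) ⊤ z hz0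
  obtain ⟨c, rfl⟩ := CohQC.sections_surjective_top
    (CohQC.seq_shortExact (CohFinite.shortExact_tmap (CohFinite.isInvertible_twist n k b) (shortExact_toKer (K G) 0 (exact_K G 0))))
    (kernel_vanish G h b (n - 1) 1 1 le_rfl (by omega) (by omega)) w
  exact ⟨c, ((congrArg (fun φ => sMap φ b c) (toKer_ι (K G) 0).symm).trans (sMap_comp _ _ b c)).trans hw⟩

end Groth.Agent.HorrocksPn
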